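import Groth.Agent.CAlgH3.PRes
import Groth.Agent.CAlgH3.PSheaf

/-!
# The sheaf of a free graded module is a coproduct of twisting sheaves
-/

set_option autoImplicit false
set_option linter.unusedSectionVars false
set_option backward.isDefEq.respectTransparency.types false

universe u

open DirectSum AlgebraicGeometry CategoryTheory TopologicalSpace Opposite MvPolynomial
open Groth.Agent.GrLib
open Groth.Agent.CAlgH3.GrModExact Groth.Agent.CAlgH3.PosPart Groth.Agent.CAlgH3.PTilde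
open Groth.Agent.CAlgH3.PRing Groth.Agent.CAlgH3

noncomputable section

namespace Groth.Agent.SyzP5

variable {k : Type u} [Field k] {r : ℕ}
variable {M τ : Type u} [AddCommGroup M] [Module (MvPolynomial (Fin (r + 1)) k) M] [SetLike τ M] [AddSubgroupClass τ M] {ℳ : ℤ → τ}
  [Decomposition ℳ] [SetLike.GradedSMul (GrSyz.stdGr k (Fin (r + 1))) ℳ]
variable {N τ' : Type u} [AddCommGroup N] [Module (MvPolynomial (Fin (r + 1)) k) N] [SetLike τ' N] [AddSubgroupClass τ' N] {𝒩 : ℤ → τ'}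
  [Decomposition 𝒩] [SetLike.GradedSMul (GrSyz.stdGr k (Fin (r + 1))) 𝒩]
variable {L ρ : Type u} [AddCommGroup L] [Module (MvPolynomial (Fin (r + 1)) k) L] [SetLike ρ L] [AddSubgroupClass ρ L] {ℒ : ℤ → ρ}
  [Decomposition ℒ] [SetLike.GradedSMul (GrSyz.stdGr k (Fin (r + 1))) ℒ]

theorem hom_ext {n : ℤ} {X : (CohB1.ProjSpace r k).Modules} {f g : X ⟶ T k r ℳ n}
    (h : ∀ (V : (CohB1.ProjSpace r k).Opens) (s : Γ(X, V)) (y : V),
      GrMod.val (V := V) (f.app V s) y = GrMod.val (V := V) (g.app V s) y) : f = g :=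
  Scheme.Modules.hom_ext _ _ fun V => ConcreteCategory.hom_ext _ _ fun s => GrModExact.sext fun y => h V s y

theorem Tmap_val (u : M →ₗ[MvPolynomial (Fin (r + 1)) k] N) (hu : GrLC.IsGrHom ℳ 𝒩 u) (n : ℤ)
    (V : (CohB1.ProjSpace r k).Opens) (s : Γ(T k r ℳ n, V)) (y : V) :
    GrMod.val (V := V) ((Tmap u hu n).app V s) y =
      GrMod.locMap (posMap (𝒵 := GrSyz.stdGr k (Fin (r + 1))) u hu) y.1 (GrMod.val (V := V) s y) := rfl

theorem locMap_comp {A σ : Type u} [CommRing A] [SetLike σ A] [AddSubgroupClass σ A] {𝒜 : ℕ → σ} [GradedRing 𝒜]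
    {P Q R : Type u} [AddCommGroup P] [Module A P] [AddCommGroup Q] [Module A Q] [AddCommGroup R] [Module A R]
    (f : P →ₗ[A] Q) (g : Q →ₗ[A] R) (h : P →ₗ[A] R) (e : ∀ x, h x = g (f x)) (x : ProjectiveSpectrum 𝒜)
    (q : GrMod.LocMod 𝒜 (M := P) x) : GrMod.locMap g x (GrMod.locMap f x q) = GrMod.locMap h x q := by
  induction q using LocalizedModule.induction_on with
  | h m t => rw [GrMod.locMap_mk, GrMod.locMap_mk, GrMod.locMap_mk, e]

theorem locMap_id {A σ : Type u} [CommRing A] [SetLike σ A] [AddSubgroupClass σ A] {𝒜 : ℕ → σ} [GradedRing 𝒜]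
    {P : Type u} [AddCommGroup P] [Module A P]
    (f : P →ₗ[A] P) (e : ∀ x, f x = x) (x : ProjectiveSpectrum 𝒜) (q : GrMod.LocMod 𝒜 (M := P) x) :
    GrMod.locMap f x q = q := by
  induction q using LocalizedModule.induction_on with
  | h m t => rw [GrMod.locMap_mk, e]

theorem locMap_add {A σ : Type u} [CommRing A] [SetLike σ A] [AddSubgroupClass σ A] {𝒜 : ℕ → σ} [GradedRing 𝒜]
    {P Q : Type u} [AddCommGroup P] [Module A P] [AddCommGroup Q] [Module A Q]
    (f g h : P →ₗ[A] Q) (e : ∀ x, h x = f x + g x) (x : ProjectiveSpectrum 𝒜) (q : GrMod.LocMod 𝒜 (M := P) x) :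
    GrMod.locMap h x q = GrMod.locMap f x q + GrMod.locMap g x q := by
  induction q using LocalizedModule.induction_on with
  | h m t =>
    rw [GrMod.locMap_mk, GrMod.locMap_mk, GrMod.locMap_mk, e]
    rw [LocalizedModule.mk_add_mk]
    exact LocalizedModule.mk_eq.mpr ⟨1, by simp [Submonoid.smul_def, smul_add, mul_smul]⟩

theorem Tmap_comp (u : M →ₗ[MvPolynomial (Fin (r + 1)) k] N) (hu : GrLC.IsGrHom ℳ 𝒩 u)
    (v : N →ₗ[MvPolynomial (Fin (r + 1)) k] L) (hv : GrLC.IsGrHom 𝒩 ℒ v)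
    (w : M →ₗ[MvPolynomial (Fin (r + 1)) k] L) (hw : GrLC.IsGrHom ℳ ℒ w) (e : ∀ x, w x = v (u x)) (n : ℤ) :
    Tmap u hu n ≫ Tmap v hv n = Tmap w hw n :=
  hom_ext fun _ _ y => locMap_comp _ _ _ (fun x => Subtype.ext (e x.1)) y.1 _

theorem Tmap_id (w : M →ₗ[MvPolynomial (Fin (r + 1)) k] M) (hw : GrLC.IsGrHom ℳ ℳ w) (e : ∀ x, w x = x) (n : ℤ) :
    Tmap w hw n = 𝟙 (T k r ℳ n) :=
  hom_ext fun _ _ y => locMap_id _ (fun x => Subtype.ext (e x.1)) y.1 _

theorem Tmap_add (u v w : M →ₗ[MvPolynomial (Fin (r + 1)) k] N) (hu : GrLC.IsGrHom ℳ 𝒩 u)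
    (hv : GrLC.IsGrHom ℳ 𝒩 v) (hw : GrLC.IsGrHom ℳ 𝒩 w) (h : ∀ x, w x = u x + v x) (n : ℤ) :
    Tmap w hw n = Tmap u hu n + Tmap v hv n :=
  hom_ext fun _ _ y => locMap_add _ _ _ (fun x => Subtype.ext (h x.1)) y.1 _

theorem Tmap_zero (w : M →ₗ[MvPolynomial (Fin (r + 1)) k] N) (hw : GrLC.IsGrHom ℳ 𝒩 w) (e : ∀ x, w x = 0) (n : ℤ) :
    Tmap w hw n = 0 :=
  add_eq_left.1 (Tmap_add w w w hw hw hw (fun x => by simp [e]) n).symm

theorem Tmap_sum {ι : Type*} (s : Finset ι) (u : ι → M →ₗ[MvPolynomial (Fin (r + 1)) k] N)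
    (hu : ∀ j, GrLC.IsGrHom ℳ 𝒩 (u j)) (n : ℤ) :
    ∀ (w : M →ₗ[MvPolynomial (Fin (r + 1)) k] N) (hw : GrLC.IsGrHom ℳ 𝒩 w), (∀ x, w x = ∑ j ∈ s, u j x) →
      Tmap w hw n = ∑ j ∈ s, Tmap (u j) (hu j) n := by
  classical
  induction s using Finset.induction_on with
  | empty => exact fun w hw e => by rw [Finset.sum_empty]; exact Tmap_zero w hw (fun x => by simpa using e x) n
  | @insert a s ha ih =>
    intro w hw e
    rw [Finset.sum_insert ha, ← ih (∑ j ∈ s, u j)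
      (fun i x hx => by rw [LinearMap.sum_apply]; exact sum_mem fun j _ => hu j i x hx) (fun x => by rw [LinearMap.sum_apply])]
    exact Tmap_add _ _ w _ _ hw (fun x => by rw [e, Finset.sum_insert ha, LinearMap.sum_apply]) n

/-- The sheaf of a free graded module. -/
theorem nonempty_free_iso {m : ℕ} (g : Fin m → ℤ) [Decomposition (freeGr (GrSyz.stdGr k (Fin (r + 1))) g)] (n : ℤ) :
    Nonempty (T k r (freeGr (GrSyz.stdGr k (Fin (r + 1))) g) n ≅
      ∐ fun j : Fin m => Twist.twistProjSpace r k (n - g j)) := by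
  classical
  letI : ∀ j, Decomposition (shiftGr (GrSyz.stdGr k (Fin (r + 1))) (-g j)) := fun j => shiftDecomp _ _
  let ι : ∀ j, T k r (shiftGr (GrSyz.stdGr k (Fin (r + 1))) (-g j)) n ⟶ T k r (freeGr (GrSyz.stdGr k (Fin (r + 1))) g) n :=
    fun j => Tmap (LinearMap.single _ (fun _ : Fin m => MvPolynomial (Fin (r + 1)) k) j) (fun i v hv => by
      have := single_grHomDeg (𝒜 := GrSyz.stdGr k (Fin (r + 1))) g j (i + -g j) v hv
      rwa [neg_add_cancel_right] at this) n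
  let π : ∀ j, T k r (freeGr (GrSyz.stdGr k (Fin (r + 1))) g) n ⟶ T k r (shiftGr (GrSyz.stdGr k (Fin (r + 1))) (-g j)) n :=
    fun j => Tmap (LinearMap.proj j) (fun i v hv => by
      show v j ∈ GrSyz.stdGr k (Fin (r + 1)) (i + -g j)
      rw [← sub_eq_add_neg]; exact mem_freeGr.1 hv j) n
  let f : (∐ fun j => T k r (shiftGr (GrSyz.stdGr k (Fin (r + 1))) (-g j)) n) ⟶ _ := Limits.Sigma.desc ι
  let f' : T k r (freeGr (GrSyz.stdGr k (Fin (r + 1))) g) n ⟶ ∐ fun j => T k r (shiftGr (GrSyz.stdGr k (Fin (r + 1))) (-g j)) n :=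
    ∑ j, π j ≫ Limits.Sigma.ι (fun j => T k r (shiftGr (GrSyz.stdGr k (Fin (r + 1))) (-g j)) n) j
  have hone : ∀ j, ι j ≫ π j = 𝟙 _ := fun j => (Tmap_comp _ _ _ _ LinearMap.id (fun _ _ hx => hx) (fun x => by simp) n).trans
    (Tmap_id _ _ (fun _ => rfl) n)
  have hzero : ∀ i j, i ≠ j → ι i ≫ π j = 0 := fun i j hij => (Tmap_comp _ _ _ _ 0 (fun _ _ _ => zero_mem _)
    (fun x => by simp [Pi.single_eq_of_ne (Ne.symm hij)]) n).trans (Tmap_zero _ _ (fun _ => rfl) n)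
  have hff' : f ≫ f' = 𝟙 _ := Limits.Sigma.hom_ext _ _ fun i => by
    rw [Category.comp_id, Limits.Sigma.ι_desc_assoc, Preadditive.comp_sum, Finset.sum_eq_single i]
    · rw [← Category.assoc, hone, Category.id_comp]
    · intro j _ hj
      rw [← Category.assoc, hzero i j (Ne.symm hj), Limits.zero_comp]
    · simp
  let E : Fin m → ((Fin m → MvPolynomial (Fin (r + 1)) k) →ₗ[MvPolynomial (Fin (r + 1)) k] (Fin m → MvPolynomial (Fin (r + 1)) k)) :=
    fun j => (LinearMap.single _ (fun _ : Fin m => MvPolynomial (Fin (r + 1)) k) j).comp (LinearMap.proj j)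
  have hE : ∀ j, GrLC.IsGrHom (freeGr (GrSyz.stdGr k (Fin (r + 1))) g) (freeGr (GrSyz.stdGr k (Fin (r + 1))) g) (E j) :=
    fun j i v hv => mem_freeGr.2 fun l => by
      show Pi.single (M := fun _ : Fin m => MvPolynomial (Fin (r + 1)) k) j (v j) l ∈ _
      rcases eq_or_ne j l with rfl | hl
      · rw [Pi.single_eq_same]; exact mem_freeGr.1 hv j
      · rw [Pi.single_eq_of_ne (Ne.symm hl)]; exact zero_mem _
  have hc : ∀ j, π j ≫ ι j = Tmap (E j) (hE j) n := fun j => Tmap_comp _ _ _ _ _ _ (fun _ => rfl) n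
  have hf'f : f' ≫ f = 𝟙 _ := by
    simp only [f', f, Preadditive.sum_comp, Category.assoc, Limits.Sigma.ι_desc]
    rw [Finset.sum_congr rfl fun j _ => hc j]
    rw [← Tmap_sum Finset.univ _ _ n LinearMap.id (fun _ _ hx => hx) (fun v => by
      funext l; simp [Finset.sum_apply, E, Pi.single_apply])]
    exact Tmap_id _ _ (fun _ => rfl) n
  refine ⟨(Iso.mk f f' hff' hf'f).symm ≪≫ Limits.Sigma.mapIso fun j => ?_⟩
  exact (nonempty_iso_shift (ℳ := GrSyz.stdGr k (Fin (r + 1))) (-g j) (fun i p => mem_shiftGr) n).some ≪≫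
    ringIso k r (n + -g j) ≪≫ eqToIso (by rw [← sub_eq_add_neg])

end Groth.Agent.SyzP5

end
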